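import Mathlib
import Cfsg.Agent.Lib.CosetTable.Check

/-! Generated certificate data for the coset table `ONLevel0`. -/

namespace Cfsg.Agent.Lib.CosetTable.ONLevel0

open Cfsg.Agent.Lib.CosetTable

set_option maxRecDepth 10000

noncomputable def facts : T := .leaf 0x20

noncomputable def defs : T := .leaf 0x0

noncomputable def nodeT : ℕ := 0x1000000

noncomputable def parT : ℕ := 0x0

noncomputable def perm0 : ℕ := 0x1

noncomputable def eid0 : ℕ := 0x0

noncomputable def rulesT : RT := .leaf 1 [] 0 0

noncomputable def relsL : List (List ℕ) := [[0, 0]]

noncomputable def subsL : List (List ℕ) := []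

noncomputable def cert : Cert where
  k := 1
  rels := relsL
  subs := subsL
  rules := rulesT
  facts := facts
  defs := defs

noncomputable def tab : Table where
  n := 2
  k := 1
  node := nodeT
  perms := [perm0]
  eids := [eid0]
  par := parT

end Cfsg.Agent.Lib.CosetTable.ONLevel0
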